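import Mathlib
import Cfsg.Prelude.Def_Characters
import Cfsg.Agent.Lib.helper3.AbelianInertia

/-!
# Restriction of an irreducible character to a normal subgroup with abelian quotient

If `χ` is irreducible, `G ⧸ N` is abelian and every coset of `N` contains an element at which `χ`
does not vanish, then the restriction of `χ` to `N` is irreducible (helper8, for S2544).
-/

set_option autoImplicit false

namespace Cfsg.Agent.S2544L

open Cfsg Cfsg.Agent.Lib.helper3.Irr Cfsg.Agent.Lib.helper3.IndFun
open scoped ComplexConjugate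

variable {G : Type*} [Group G]

theorem isIrrCharacter_restrict_of_nonvanishing [Fintype G] (N : Subgroup G) [hN : N.Normal]
    [Fintype N] (hab : ∀ x y : G, x * y * x⁻¹ * y⁻¹ ∈ N) {χ : G → ℂ} (hχ : IsIrrCharacter G χ)
    (hnv : ∀ g : G, ∃ n ∈ N, χ (g * n) ≠ 0) :
    IsIrrCharacter N (fun n : N => χ n) := by
  classical
  letI : Fintype (G ⧸ N) := Fintype.ofFinite _
  have hχc := isCharacter_of_isIrrCharacter hχ
  have hcf := isClassFunction_of_isCharacter hχc
  apply isIrrCharacter_of_classInner_self_eq_one (isCharacter_restrict hχc N)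
  rw [← frobenius_reciprocity N (fun n : N => χ n) χ hcf]
  have h1 : indFun N (fun n : N => χ n) = indFun N (fun _ => (1 : ℂ)) * χ := by
    rw [← indFun_mul_restrict N _ χ hcf]
    congr 1
    funext n
    simp
  rw [h1, indFun_one_eq_sum_inflate N hab, Finset.sum_mul, classInner_sum_left]
  set triv : IrrCharacter (G ⧸ N) := ⟨fun _ => 1, isIrrCharacter_one⟩ with htriv
  rw [Finset.sum_eq_single triv]
  · have : inflate N (triv : G ⧸ N → ℂ) * χ = χ := by
      funext g
      simp [inflate_apply, htriv]
    rw [this, irr_classInner_self hχ]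
  · intro β _ hβ
    have hβ1 : inflate N (β : G ⧸ N → ℂ) 1 = 1 := by
      rw [inflate_apply, QuotientGroup.mk_one]
      exact apply_one_eq_one_of_comm (quotient_comm_of_commutator_mem N hab) β.2
    have hβirr : IsIrrCharacter G (inflate N (β : G ⧸ N → ℂ) * χ) :=
      isIrrCharacter_linear_mul
        (isCharacter_of_isIrrCharacter (isIrrCharacter_inflate N β.2)) hβ1 hχ
    apply irr_classInner_eq_zero hβirr hχ
    intro heq
    apply hβ
    apply Subtype.ext
    funext x
    obtain ⟨g, rfl⟩ := QuotientGroup.mk_surjective x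
    obtain ⟨n, hn, hne⟩ := hnv g
    have h2 := congrFun heq (g * n)
    rw [Pi.mul_apply, inflate_apply] at h2
    have h3 : ((g * n : G) : G ⧸ N) = (g : G ⧸ N) := by
      rw [QuotientGroup.mk_mul, (QuotientGroup.eq_one_iff n).2 hn, mul_one]
    rw [h3] at h2
    exact mul_right_cancel₀ hne (h2.trans (one_mul _).symm)
  · intro h
    exact absurd (Finset.mem_univ _) h

end Cfsg.Agent.S2544L
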