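import Mathlib
import Cfsg.Agent.Lib.Helper5.GLBN.Pair
import Cfsg.Agent.Lib.Helper5.BNFix
import Cfsg.Agent.Lib.Helper5.BNSteinberg

/-!
# The longest element of the Weyl group of `GL_n(F)` and the torus (helper8, for S2544)

For helper5's (B,N)-pair `glBN n F` of `GL_n(F)`: the class of the order reversing permutation
matrix has no ascent, and `B ∩ n₀ B n₀⁻¹` is the group of diagonal matrices.
-/

set_option autoImplicit false

namespace Cfsg.Agent.S2544L

open Matrix Cfsg Cfsg.Agent.Lib.Helper5.GLBN Cfsg.Agent.Lib.Helper5.BN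
open scoped MatrixGroups

variable {n : ℕ} {F : Type*} [Field F]

/-- moving a transvection through a permutation matrix -/
theorem permGL_mul_tv (σ : Equiv.Perm (Fin n)) (i j : Fin n) (hij : i ≠ j) (c : F) :
    (permGL σ : GL (Fin n) F) * tv i j hij c =
      tv (σ i) (σ j) (fun h => hij (σ.injective h)) c * permGL σ := by
  apply Units.ext
  ext a b
  rw [Units.val_mul, Units.val_mul, permGL_coe, pm_mul_apply, mul_pm_apply, tv_coe, tv_coe,
    transvection_apply, transvection_apply]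
  have h1 : (σ⁻¹ a = b) ↔ (a = σ b) := by
    constructor
    · intro h; rw [← h]; simp
    · intro h; rw [h]; simp
  have h2 : (i = σ⁻¹ a ∧ j = b) ↔ (σ i = a ∧ σ j = σ b) := by
    constructor
    · rintro ⟨rfl, rfl⟩; simp
    · rintro ⟨h, h'⟩
      refine ⟨?_, σ.injective h'⟩
      rw [← h]; simp
  simp only [h1, h2]

/-- a lower root element lies in the double coset of the corresponding reflection -/
theorem lower_mem_D {k k' : Fin n} (hk : (k : ℕ) + 1 = k') (hne : k ≠ k') :
    tv k' k hne.symm (1 : F) ∈ D (glBN n F) (permGL (Equiv.swap k k')) := by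
  have hlt : k < k' := by rw [Fin.lt_def]; omega
  have hu := sl2_upper (F := F) hk hne (-1) (neg_ne_zero.2 one_ne_zero)
  have e : (-(1 / (-1 : F))) = 1 := by
    rw [div_neg, neg_neg, div_one]
  rw [e] at hu
  rw [mem_D]
  refine ⟨tv k k' hne 1, tv_mem_upper hlt 1, _, hu, ?_⟩
  have hss := permGL_swap_mul_self (F := F) k k'
  have htt : tv k k' hne (1 : F) * tv k k' hne (-1) = 1 := by
    rw [tv_mul_tv, add_neg_cancel, tv_zero]
  calc tv k' k hne.symm (1 : F)
      = (tv k k' hne 1 * tv k k' hne (-1)) * tv k' k hne.symm 1 := by rw [htt, one_mul]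
    _ = tv k k' hne 1 * (permGL (Equiv.swap k k') * permGL (Equiv.swap k k')) * tv k k' hne (-1)
          * tv k' k hne.symm 1 := by rw [hss, mul_one]
    _ = _ := by simp only [mul_assoc]

/-- the order reversing permutation matrix, as an element of `N` -/
def n0 (n : ℕ) (F : Type*) [Field F] : (glBN n F).N :=
  ⟨permGL Fin.revPerm, permGL_mem _⟩

theorem n0_coe : ((n0 n F : (glBN n F).N) : GL (Fin n) F) = permGL Fin.revPerm := rfl

/-- the class of the order reversing permutation matrix is the longest element -/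
theorem noAscent_rev : NoAscent (glBN n F) (proj (glBN n F) (n0 n F)) := by
  intro σ hσ
  obtain ⟨ns, hns, rfl⟩ := hσ
  have hns' := hns
  obtain ⟨k, k', hk, hnse⟩ := hns'
  by_contra hlt
  rw [not_lt] at hlt
  have hlt' : k < k' := by rw [Fin.lt_def]; omega
  have hne : k ≠ k' := ne_of_lt hlt'
  have hx : ((n0 n F : (glBN n F).N) : GL (Fin n) F) ∈ C (glBN n F) (proj (glBN n F) (n0 n F)) := by
    rw [C_proj]; exact self_mem_D _ _
  have ht : tv k' k hne.symm (1 : F) ∈ C (glBN n F) (proj (glBN n F) ns) := by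
    rw [C_proj, hnse]; exact lower_mem_D hk hne
  have h1 := L2_right (glBN n F) ⟨ns, hns, rfl⟩ hlt hx ht
  have h2 : ((n0 n F : (glBN n F).N) : GL (Fin n) F) * tv k' k hne.symm (1 : F)
      ∈ C (glBN n F) (proj (glBN n F) (n0 n F)) := by
    rw [C_proj, n0_coe, permGL_mul_tv]
    apply B_mul_mem_D _ _ (self_mem_D _ _)
    apply tv_mem_upper
    rw [Fin.revPerm_apply, Fin.revPerm_apply, Fin.rev_lt_rev]
    exact hlt'
  have h3 := bruhat (glBN n F) (C_inj_of_inter (glBN n F) h1 h2)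
  have h4 : proj (glBN n F) ns = 1 := by
    have : proj (glBN n F) (n0 n F) * proj (glBN n F) ns = proj (glBN n F) (n0 n F) * 1 := by
      rw [mul_one]; exact h3
    exact mul_left_cancel this
  exact Sbar_ne_one (glBN n F) ⟨ns, hns, rfl⟩ h4

/-! ### the generators, indexed by natural numbers -/

/-- the `j`-th adjacent transposition matrix (`1` if out of range) -/
noncomputable def sG (n : ℕ) (F : Type*) [Field F] (j : ℕ) : GL (Fin n) F :=
  if h : j + 1 < n then permGL (Equiv.swap (⟨j, by omega⟩ : Fin n) ⟨j + 1, h⟩) else 1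

theorem sG_mem_S {j : ℕ} (h : j + 1 < n) : sG n F j ∈ (glBN n F).S := by
  unfold sG
  rw [dif_pos h]
  exact ⟨⟨j, by omega⟩, ⟨j + 1, h⟩, rfl, rfl⟩

theorem sG_mem_N (j : ℕ) : sG n F j ∈ (glBN n F).N := by
  unfold sG
  split_ifs with h
  · exact permGL_mem _
  · exact one_mem _

/-- the generators of the Weyl group -/
noncomputable def tauW (n : ℕ) (F : Type*) [Field F] (j : ℕ) : W (glBN n F) :=
  proj (glBN n F) ⟨sG n F j, sG_mem_N j⟩

/-- the standard parabolic subgroups -/
noncomputable def QJ (n : ℕ) (F : Type*) [Field F] (J : Finset ℕ) : Subgroup (GL (Fin n) F) :=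
  (glBN n F).parabolic (sG n F '' (J : Set ℕ))

theorem tauW_surj : ∀ σ ∈ Sbar (glBN n F), ∃ j < n - 1, tauW n F j = σ := by
  rintro σ ⟨ns, hns, rfl⟩
  obtain ⟨k, k', hk, hnse⟩ := hns
  have hk' : (k : ℕ) + 1 < n := by rw [hk]; exact k'.2
  refine ⟨(k : ℕ), by omega, ?_⟩
  unfold tauW
  congr 1
  apply Subtype.ext
  show sG n F (k : ℕ) = (ns : GL (Fin n) F)
  unfold sG
  rw [dif_pos hk', hnse]
  congr 2
  exact Fin.ext hk

theorem QJ_spec : ∀ J ⊆ Finset.range (n - 1), ∃ JG ⊆ (glBN n F).S,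
    QJ n F J = (glBN n F).parabolic JG ∧ bar (glBN n F) JG = tauW n F '' (J : Set ℕ) := by
  intro J hJ
  refine ⟨sG n F '' (J : Set ℕ), ?_, rfl, ?_⟩
  · rintro _ ⟨j, hj, rfl⟩
    have := Finset.mem_range.1 (hJ hj)
    exact sG_mem_S (by omega)
  · ext σ
    constructor
    · rintro ⟨m, ⟨j, hj, hjm⟩, rfl⟩
      refine ⟨j, hj, ?_⟩
      unfold tauW
      congr 1
      exact Subtype.ext hjm
    · rintro ⟨j, hj, rfl⟩
      exact ⟨⟨sG n F j, sG_mem_N j⟩, ⟨j, hj, rfl⟩, rfl⟩

/-! ### the torus -/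

/-- `B ∩ n₀ B n₀⁻¹` -/
def diagK (n : ℕ) (F : Type*) [Field F] : Subgroup (GL (Fin n) F) :=
  upperTriangularGL n F ⊓ (upperTriangularGL n F).comap
    (MulAut.conj ((permGL Fin.revPerm : GL (Fin n) F)⁻¹)).toMonoidHom

theorem mem_diagK' {g : GL (Fin n) F} : g ∈ diagK n F ↔ g ∈ upperTriangularGL n F ∧
    (permGL Fin.revPerm : GL (Fin n) F)⁻¹ * g * permGL Fin.revPerm ∈ upperTriangularGL n F := by
  unfold diagK
  rw [Subgroup.mem_inf, Subgroup.mem_comap]
  simp

theorem rev_conj_apply (g : GL (Fin n) F) (i j : Fin n) :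
    (((permGL Fin.revPerm : GL (Fin n) F)⁻¹ * g * permGL Fin.revPerm : GL (Fin n) F) :
      Matrix (Fin n) (Fin n) F) i j = (g : Matrix (Fin n) (Fin n) F) i.rev j.rev := by
  rw [← map_inv, Units.val_mul, Units.val_mul, permGL_coe, permGL_coe, mul_pm_apply, pm_mul_apply,
    inv_inv, Fin.revPerm_apply, Fin.revPerm_apply]

theorem mem_diagK {g : GL (Fin n) F} :
    g ∈ diagK n F ↔ ∀ i j : Fin n, i ≠ j → (g : Matrix (Fin n) (Fin n) F) i j = 0 := by
  rw [mem_diagK', mem_upper, mem_upper]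
  constructor
  · rintro ⟨h1, h2⟩ i j hij
    rcases lt_or_gt_of_ne hij with h | h
    · have := h2 i.rev j.rev (Fin.rev_lt_rev.2 h)
      rw [rev_conj_apply, Fin.rev_rev, Fin.rev_rev] at this
      exact this
    · exact h1 i j h
  · intro h
    refine ⟨fun i j hij => h i j (ne_of_gt hij), fun i j hij => ?_⟩
    rw [rev_conj_apply]
    apply h
    intro e
    exact (ne_of_gt hij) (Fin.rev_injective e)

theorem diagK_le : diagK n F ≤ upperTriangularGL n F := inf_le_left

theorem diagK_spec : ∀ β ∈ (glBN n F).B, β ∈ diagK n F ↔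
    ((n0 n F : (glBN n F).N) : GL (Fin n) F)⁻¹ * β * (n0 n F : (glBN n F).N) ∈ (glBN n F).B := by
  intro β hβ
  rw [mem_diagK', n0_coe]
  exact ⟨fun h => h.2, fun h => ⟨hβ, h⟩⟩

/-! ### the alternating sum -/

/-- the alternating sum of the numbers of fixed points on the cosets of the parabolic subgroups -/
noncomputable def stZ (n : ℕ) (F : Type*) [Field F] (g : GL (Fin n) F) : ℤ :=
  ∑ J ∈ (Finset.range (n - 1)).powerset,
    (-1 : ℤ) ^ J.card * (Nat.card (MulAction.fixedBy (GL (Fin n) F ⧸ QJ n F J) g) : ℤ)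

theorem stZ_norm [Finite F] [Fintype (GL (Fin n) F)] :
    ∑ g : GL (Fin n) F, (stZ n F g) ^ 2 = (Nat.card (GL (Fin n) F) : ℤ) :=
  steinberg_norm (glBN n F) (n - 1) (tauW n F) tauW_surj (QJ n F) QJ_spec _ noAscent_rev

theorem stZ_borel [Finite F] (b : (glBN n F).B) :
    stZ n F (b : GL (Fin n) F) = (Nat.card (MulAction.fixedBy
      (↥(glBN n F).B ⧸ (diagK n F).subgroupOf (glBN n F).B) b) : ℤ) := by
  unfold stZ
  rw [alternating_sum_fixedBy (glBN n F) (n - 1) (tauW n F) tauW_surj (QJ n F) QJ_spec _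
    noAscent_rev (b : GL (Fin n) F) b.2, card_fixedBy_bigCell (glBN n F) (n0 n F) (diagK n F)
    diagK_spec b]

end Cfsg.Agent.S2544L
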