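import Mathlib
import Cfsg.Agent.Lib.S2544.Setup
import Cfsg.Agent.Lib.helper3.TwoTrans
import Cfsg.Agent.Lib.helper3.GenChar
import Cfsg.Agent.Lib.helper3.NormOne

/-!
# The Steinberg character of `GL_n(F)` (helper8, for S2544)

The alternating sum of the permutation characters on the cosets of the standard parabolic
subgroups is an irreducible character; on the upper triangular group it is the permutation
character on the cosets of the diagonal group.
-/

set_option autoImplicit false

namespace Cfsg.Agent.S2544L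

open Matrix Cfsg Cfsg.Agent.Lib.Helper5.GLBN Cfsg.Agent.Lib.Helper5.BN Cfsg.Agent.Lib.helper3
open scoped MatrixGroups ComplexConjugate

variable {n : ℕ} {F : Type*} [Field F]

/-- the Steinberg character of `GL_n(F)` -/
noncomputable def stGL (n : ℕ) (F : Type*) [Field F] (g : GL (Fin n) F) : ℂ := (stZ n F g : ℂ)

/-- the cosets of the diagonal group in the upper triangular group -/
abbrev BmodK (n : ℕ) (F : Type*) [Field F] : Type _ :=
  ↥(upperTriangularGL n F) ⧸ (diagK n F).subgroupOf (upperTriangularGL n F)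

theorem stGL_apply_of_mem [Finite F] {b : GL (Fin n) F} (hb : b ∈ upperTriangularGL n F) :
    stGL n F b = (Nat.card (MulAction.fixedBy (BmodK n F)
      (⟨b, hb⟩ : ↥(upperTriangularGL n F))) : ℂ) := by
  unfold stGL
  have := stZ_borel (n := n) (F := F) ⟨b, hb⟩
  rw [this]
  norm_cast

theorem stGL_one [Finite F] : stGL n F 1 = (Nat.card (BmodK n F) : ℂ) := by
  rw [stGL_apply_of_mem (one_mem _)]
  have : (⟨1, one_mem _⟩ : ↥(upperTriangularGL n F)) = 1 := rfl
  rw [this, MulAction.fixedBy_one_eq_univ, Nat.card_congr (Equiv.Set.univ _)]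

theorem stGL_ne_zero_of_mem_diagK [Finite F] {t : GL (Fin n) F} (ht : t ∈ diagK n F) :
    stGL n F t ≠ 0 := by
  rw [stGL_apply_of_mem (diagK_le ht)]
  have hmem : ((1 : ↥(upperTriangularGL n F)) : BmodK n F) ∈ MulAction.fixedBy (BmodK n F)
      (⟨t, diagK_le ht⟩ : ↥(upperTriangularGL n F)) := by
    rw [MulAction.mem_fixedBy, MulAction.Quotient.smul_mk, QuotientGroup.eq,
      Subgroup.mem_subgroupOf]
    simp only [smul_eq_mul, mul_one, Subgroup.coe_inv]
    exact inv_mem ht
  have : Nonempty (MulAction.fixedBy (BmodK n F) (⟨t, diagK_le ht⟩ : ↥(upperTriangularGL n F))) :=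
    ⟨⟨_, hmem⟩⟩
  exact Nat.cast_ne_zero.2 Nat.card_pos.ne'

theorem isIrrCharacter_stGL [Finite F] : IsIrrCharacter (GL (Fin n) F) (stGL n F) := by
  classical
  let _ : Fintype (GL (Fin n) F) := Fintype.ofFinite _
  have hnorm := stZ_norm (n := n) (F := F)
  have hgen : IsGeneralizedCharacter (GL (Fin n) F) (stGL n F) := by
    have : stGL n F = ∑ J ∈ (Finset.range (n - 1)).powerset,
        ((((-1 : ℤ) ^ J.card : ℤ)) : ℂ) • (fun g : GL (Fin n) F =>
          (Nat.card (MulAction.fixedBy (GL (Fin n) F ⧸ QJ n F J) g) : ℂ)) := by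
      funext g
      rw [Finset.sum_apply]
      unfold stGL stZ
      push_cast
      apply Finset.sum_congr rfl
      intro J _
      simp
    rw [this]
    apply GenChar.sum
    intro J _
    apply GenChar.smul_intCast
    apply GenChar.of_isCharacter
    exact PermChar.isCharacter_permChar _
  have hinner : classInner (stGL n F) (stGL n F) = 1 := by
    unfold classInner
    have hs : ∑ g : GL (Fin n) F, stGL n F g * conj (stGL n F g)
        = (Nat.card (GL (Fin n) F) : ℂ) := by
      have h2 := congrArg (fun z : ℤ => (z : ℂ)) hnorm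
      simp only [Int.cast_sum, Int.cast_natCast] at h2
      rw [← h2]
      apply Finset.sum_congr rfl
      intro g _
      unfold stGL
      rw [map_intCast, sq, Int.cast_mul]
    rw [hs]
    exact inv_mul_cancel₀ (Nat.cast_ne_zero.2 Nat.card_pos.ne')
  obtain ⟨a, ha | ha⟩ := Irr.exists_irr_of_norm_one hgen hinner
  · rw [ha]; exact a.2
  · exfalso
    obtain ⟨m, ρ, -, hρ⟩ := a.2
    have h1 : (a : GL (Fin n) F → ℂ) 1 = (m : ℂ) := by
      rw [← hρ, Representation.char_one]
      simp
    have h2 := stGL_one (n := n) (F := F)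
    rw [ha, Pi.neg_apply, h1] at h2
    have h3 : ((m + Nat.card (BmodK n F) : ℕ) : ℂ) = 0 := by
      push_cast
      rw [← h2]
      ring
    have h4 := Nat.cast_eq_zero.1 h3
    have h5 : 0 < Nat.card (BmodK n F) := Nat.card_pos
    omega

end Cfsg.Agent.S2544L
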