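import Mathlib
import Cfsg.Agent.Lib.S2544.StGL
import Cfsg.Agent.H9.SLnB

/-!
# Orders: the index of the diagonal group in the upper triangular group, and the order of a
Sylow `p`-subgroup of `PSL_n(F)` (helper8, for S2544)
-/

set_option autoImplicit false

namespace Cfsg.Agent.S2544L

open Matrix Cfsg Cfsg.Agent.Lib.Helper5.GLBN Cfsg.Agent.H9.SLnB
open scoped MatrixGroups

variable {n : ℕ} {F : Type*} [Field F]

/-- the upper triangular matrix with given diagonal and given entries above the diagonal -/
def dataM (d : Fin n → Fˣ) (f : UpIdx n → F) : Matrix (Fin n) (Fin n) F := fun i j =>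
  if i = j then (d i : F) else if h : i < j then f ⟨(i, j), h⟩ else 0

theorem dataM_tri (d : Fin n → Fˣ) (f : UpIdx n → F) : (dataM d f).BlockTriangular id := by
  intro i j hij
  have hij' : j < i := hij
  unfold dataM
  rw [if_neg hij'.ne', dif_neg (not_lt.2 hij'.le)]

theorem dataM_det (d : Fin n → Fˣ) (f : UpIdx n → F) : (dataM d f).det ≠ 0 := by
  rw [Matrix.det_of_isUpperTriangular (dataM_tri d f), Finset.prod_ne_zero_iff]
  intro i _
  unfold dataM
  rw [if_pos rfl]
  exact (d i).ne_zero

/-- the element of `GL_n(F)` with given data -/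
def ofData (d : Fin n → Fˣ) (f : UpIdx n → F) : GL (Fin n) F :=
  Matrix.GeneralLinearGroup.mkOfDetNeZero (dataM d f) (dataM_det d f)

theorem ofData_coe (d : Fin n → Fˣ) (f : UpIdx n → F) :
    ((ofData d f : GL (Fin n) F) : Matrix (Fin n) (Fin n) F) = dataM d f := rfl

theorem ofData_mem_upper (d : Fin n → Fˣ) (f : UpIdx n → F) :
    ofData d f ∈ upperTriangularGL n F := by
  rw [mem_upper]
  intro i j hij
  rw [ofData_coe]
  exact dataM_tri d f hij

theorem ofData_mem_diagK (d : Fin n → Fˣ) : ofData d (fun _ => (0 : F)) ∈ diagK n F := by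
  rw [mem_diagK]
  intro i j hij
  rw [ofData_coe]
  unfold dataM
  rw [if_neg hij]
  split_ifs <;> rfl

/-- the data of an upper triangular matrix -/
noncomputable def dataOf (b : ↥(upperTriangularGL n F)) : (Fin n → Fˣ) × (UpIdx n → F) :=
  (fun i => Units.mk0 (((b : GL (Fin n) F) : Matrix (Fin n) (Fin n) F) i i)
      (upper_diag_ne_zero b.2 i),
    fun q => ((b : GL (Fin n) F) : Matrix (Fin n) (Fin n) F) q.1.1 q.1.2)

theorem dataOf_bijective : Function.Bijective (dataOf (n := n) (F := F)) := by
  constructor
  · intro b b' h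
    apply Subtype.ext
    apply Units.ext
    ext i j
    rcases lt_trichotomy i j with hij | hij | hij
    · exact congrFun (congrArg Prod.snd h) ⟨(i, j), hij⟩
    · subst hij
      have := congrFun (congrArg Prod.fst h) i
      exact congrArg Units.val this
    · rw [(mem_upper.1 b.2) i j hij, (mem_upper.1 b'.2) i j hij]
  · rintro ⟨d, f⟩
    refine ⟨⟨ofData d f, ofData_mem_upper d f⟩, ?_⟩
    unfold dataOf
    apply Prod.ext
    · funext i
      apply Units.ext
      show dataM d f i i = d i
      unfold dataM
      rw [if_pos rfl]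
    · funext q
      show dataM d f q.1.1 q.1.2 = f q
      unfold dataM
      rw [if_neg q.2.ne, dif_pos q.2]

/-- the diagonal of a diagonal matrix -/
noncomputable def diagOf (t : ↥(diagK n F)) : Fin n → Fˣ :=
  fun i => Units.mk0 (((t : GL (Fin n) F) : Matrix (Fin n) (Fin n) F) i i)
      (upper_diag_ne_zero (diagK_le t.2) i)

theorem diagOf_bijective : Function.Bijective (diagOf (n := n) (F := F)) := by
  constructor
  · intro t t' h
    apply Subtype.ext
    apply Units.ext
    ext i j
    by_cases hij : i = j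
    · subst hij
      exact congrArg Units.val (congrFun h i)
    · rw [(mem_diagK.1 t.2) i j hij, (mem_diagK.1 t'.2) i j hij]
  · intro d
    refine ⟨⟨ofData d (fun _ => 0), ofData_mem_diagK d⟩, ?_⟩
    funext i
    apply Units.ext
    show dataM d (fun _ => 0) i i = d i
    unfold dataM
    rw [if_pos rfl]

/-- the index of the diagonal group in the upper triangular group -/
theorem card_BmodK [Finite F] : Nat.card (BmodK n F) = Nat.card F ^ Nat.card (UpIdx n) := by
  have h1 := Subgroup.card_eq_card_quotient_mul_card_subgroup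
    ((diagK n F).subgroupOf (upperTriangularGL n F))
  rw [Nat.card_congr (Subgroup.subgroupOfEquivOfLe (diagK_le (n := n) (F := F))).toEquiv,
    Nat.card_congr (Equiv.ofBijective _ (dataOf_bijective (n := n) (F := F))),
    Nat.card_congr (Equiv.ofBijective _ (diagOf_bijective (n := n) (F := F))),
    Nat.card_prod, Nat.card_fun (α := UpIdx n)] at h1
  have hpos : 0 < Nat.card (Fin n → Fˣ) := Nat.card_pos
  have h2 : Nat.card (BmodK n F) * Nat.card (Fin n → Fˣ)
      = Nat.card F ^ Nat.card (UpIdx n) * Nat.card (Fin n → Fˣ) := by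
    rw [← h1, mul_comm]
  exact Nat.eq_of_mul_eq_mul_right hpos h2

/-! ### the Sylow subgroups of `PSL_n(F)` -/

theorem coprime_card_center_sl [Fintype F] (p : ℕ) [hp : Fact p.Prime] [CharP F p] :
    (Nat.card (Subgroup.center (Matrix.SpecialLinearGroup (Fin n) F))).Coprime p := by
  have hpp : p.Prime := hp.out
  rw [Nat.coprime_comm, hpp.coprime_iff_not_dvd]
  intro h
  obtain ⟨x, hx⟩ := exists_prime_orderOf_dvd_card' p h
  have h1 : x ^ (Fintype.card F - 1) = 1 := by
    apply Subtype.ext
    obtain ⟨r, hr, hA⟩ := Matrix.SpecialLinearGroup.mem_center_iff.mp x.2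
    apply Subtype.ext
    rw [Subgroup.coe_pow, Matrix.SpecialLinearGroup.coe_pow, ← hA, ← map_pow, Subgroup.coe_one,
      Matrix.SpecialLinearGroup.coe_one]
    by_cases h0 : r = 0
    · subst h0
      by_cases hn : n = 0
      · subst hn
        exact Subsingleton.elim _ _
      · exfalso
        rw [Fintype.card_fin, zero_pow hn] at hr
        exact zero_ne_one hr
    · rw [FiniteField.pow_card_sub_one_eq_one r h0, map_one]
  have h2 : p ∣ Fintype.card F - 1 := by
    rw [← hx]
    exact orderOf_dvd_of_pow_eq_one h1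
  have h3 : p ∣ Fintype.card F := by
    have : ((Fintype.card F : ℕ) : F) = 0 := Nat.cast_card_eq_zero F
    exact (CharP.cast_eq_zero_iff F p _).mp this
  have h4 : 1 ≤ Fintype.card F := Fintype.card_pos
  have h5 : p ∣ 1 := by
    have := Nat.dvd_sub h3 h2
    have e : Fintype.card F - (Fintype.card F - 1) = 1 := by omega
    rwa [e] at this
  exact hpp.one_lt.ne' (Nat.dvd_one.mp h5)

/-- the order of a Sylow `p`-subgroup of `PSL_n(F)` -/
theorem card_sylow_psl [Fintype F] (p : ℕ) [hp : Fact p.Prime] [CharP F p]
    (P : Sylow p (Matrix.ProjectiveSpecialLinearGroup (Fin n) F)) :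
    Nat.card P = Nat.card F ^ Nat.card (UpIdx n) := by
  have hpp : p.Prime := hp.out
  rw [P.card_eq_multiplicity, ← card_UU (n := n) (K := F), card_UU_eq (n := n) (K := F) p]
  congr 1
  have h1 := Subgroup.card_eq_card_quotient_mul_card_subgroup
    (Subgroup.center (Matrix.SpecialLinearGroup (Fin n) F))
  rw [h1, Nat.factorization_mul Nat.card_pos.ne' Nat.card_pos.ne', Finsupp.add_apply,
    Nat.factorization_eq_zero_of_not_dvd
      (hpp.coprime_iff_not_dvd.1 (coprime_card_center_sl (n := n) (F := F) p).symm), add_zero]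

end Cfsg.Agent.S2544L
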