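import Mathlib
import Cfsg.Agent.Lib.S2544.Orders
import Cfsg.Agent.Lib.S2544.Restrict
import Cfsg.Agent.Lib.helper3.Inflate2
import Cfsg.Agent.Lib.helper3.Irr12
import Cfsg.Agent.Lib.helper3.DefectZero

/-!
# The Steinberg character of `PSL_n(F)` (helper8, for S2544)
-/

set_option autoImplicit false

namespace Cfsg.Agent.S2544L

open Matrix Cfsg Cfsg.Agent.Lib.Helper5.GLBN Cfsg.Agent.Lib.Helper5.BN Cfsg.Agent.Lib.helper3
open Cfsg.Agent.Lib.helper3.Irr Cfsg.Agent.H9.SLnB
open scoped MatrixGroups

variable {n : ℕ} {F : Type*} [Field F]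

/-! ### central elements -/

theorem fixedBy_mul_central {G : Type*} [Group G] (H : Subgroup G) (x c : G)
    (hc : c ∈ Subgroup.center G) (hcH : c ∈ H) :
    MulAction.fixedBy (G ⧸ H) (x * c) = MulAction.fixedBy (G ⧸ H) x := by
  ext y
  induction y using QuotientGroup.induction_on with
  | H y =>
    rw [MulAction.mem_fixedBy, MulAction.mem_fixedBy, MulAction.Quotient.smul_mk,
      MulAction.Quotient.smul_mk]
    have e : ((x * c) • y : G) = (x • y) * c := by
      simp only [smul_eq_mul]
      rw [mul_assoc, mul_assoc, (Subgroup.mem_center_iff.1 hc y).symm]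
    have e2 : (((x • y) * c : G) : G ⧸ H) = ((x • y : G) : G ⧸ H) := by
      rw [QuotientGroup.eq]
      have : (x • y * c)⁻¹ * (x • y) = c⁻¹ := by group
      rw [this]
      exact inv_mem hcH
    rw [e, e2]

theorem stZ_mul_central (x c : GL (Fin n) F) (hc : c ∈ Subgroup.center (GL (Fin n) F))
    (hcB : c ∈ upperTriangularGL n F) : stZ n F (x * c) = stZ n F x := by
  unfold stZ
  apply Finset.sum_congr rfl
  intro J _
  rw [fixedBy_mul_central (QJ n F J) x c hc (B_le_parabolic (glBN n F) _ hcB)]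

/-- the image in `GL_n(F)` of a central element of `SL_n(F)` is central and upper triangular -/
theorem toGL_center {z : Matrix.SpecialLinearGroup (Fin n) F}
    (hz : z ∈ Subgroup.center (Matrix.SpecialLinearGroup (Fin n) F)) :
    Matrix.SpecialLinearGroup.toGL z ∈ Subgroup.center (GL (Fin n) F) ∧
      Matrix.SpecialLinearGroup.toGL z ∈ upperTriangularGL n F := by
  obtain ⟨r, -, hA⟩ := Matrix.SpecialLinearGroup.mem_center_iff.mp hz
  have hv : ((Matrix.SpecialLinearGroup.toGL z : GL (Fin n) F) : Matrix (Fin n) (Fin n) F)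
      = Matrix.scalar (Fin n) r := hA.symm
  constructor
  · rw [Subgroup.mem_center_iff]
    intro y
    apply Units.ext
    rw [Units.val_mul, Units.val_mul, hv]
    exact ((Matrix.scalar_commute r (Commute.all r)
      (y : Matrix (Fin n) (Fin n) F)).eq).symm
  · rw [mem_upper]
    intro i j hij
    rw [hv, Matrix.scalar_apply, Matrix.diagonal_apply_ne _ (ne_of_gt hij)]

/-! ### `SL_n(F)` inside `GL_n(F)` -/

/-- the matrices of determinant one -/
def slKer (n : ℕ) (F : Type*) [Field F] : Subgroup (GL (Fin n) F) :=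
  (Matrix.GeneralLinearGroup.det : GL (Fin n) F →* Fˣ).ker

instance slKer_normal : (slKer n F).Normal := by
  unfold slKer
  infer_instance

theorem mem_slKer {g : GL (Fin n) F} :
    g ∈ slKer n F ↔ Matrix.GeneralLinearGroup.det g = 1 := MonoidHom.mem_ker

theorem toGL_mem_slKer (s : Matrix.SpecialLinearGroup (Fin n) F) :
    Matrix.SpecialLinearGroup.toGL s ∈ slKer n F := by
  rw [mem_slKer]
  exact Matrix.SpecialLinearGroup.coeToGL_det s

/-- `SL_n(F)` is the group of the matrices of determinant one -/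
noncomputable def slEquiv (n : ℕ) (F : Type*) [Field F] :
    Matrix.SpecialLinearGroup (Fin n) F ≃* ↥(slKer n F) :=
  MulEquiv.ofBijective
    (Matrix.SpecialLinearGroup.toGL.codRestrict (slKer n F) toGL_mem_slKer)
    ⟨fun a b h => Matrix.SpecialLinearGroup.toGL_injective (congrArg Subtype.val h),
     fun g => ⟨⟨((g : GL (Fin n) F) : Matrix (Fin n) (Fin n) F), by
        have h1 := g.2
        rw [mem_slKer] at h1
        have h2 := congrArg Units.val h1
        rw [Matrix.GeneralLinearGroup.val_det_apply] at h2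
        exact h2⟩, Subtype.ext (Units.ext rfl)⟩⟩

theorem slEquiv_coe (s : Matrix.SpecialLinearGroup (Fin n) F) :
    ((slEquiv n F s : ↥(slKer n F)) : GL (Fin n) F) = Matrix.SpecialLinearGroup.toGL s := rfl

theorem commutator_mem_slKer (x y : GL (Fin n) F) : x * y * x⁻¹ * y⁻¹ ∈ slKer n F := by
  rw [mem_slKer, map_mul, map_mul, map_mul, map_inv, map_inv]
  rw [mul_comm (Matrix.GeneralLinearGroup.det x), mul_assoc, mul_assoc, mul_inv_cancel_left,
    mul_inv_cancel]

theorem det_ofData (d : Fin n → Fˣ) (f : UpIdx n → F) :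
    Matrix.GeneralLinearGroup.det (ofData d f) = ∏ i, d i := by
  apply Units.ext
  rw [Matrix.GeneralLinearGroup.val_det_apply, ofData_coe,
    Matrix.det_of_isUpperTriangular (dataM_tri d f), Units.coe_prod]
  apply Finset.prod_congr rfl
  intro i _
  unfold dataM
  rw [if_pos rfl]

/-- every coset of `SL_n(F)` contains a diagonal matrix -/
theorem exists_mem_slKer_mul_mem_diagK (hn : 0 < n) (g : GL (Fin n) F) :
    ∃ m ∈ slKer n F, g * m ∈ diagK n F := by
  classical
  set i0 : Fin n := ⟨0, hn⟩
  set d : Fin n → Fˣ := Function.update (fun _ => 1) i0 (Matrix.GeneralLinearGroup.det g) with hd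
  have hdet : Matrix.GeneralLinearGroup.det (ofData d (fun _ => (0 : F)))
      = Matrix.GeneralLinearGroup.det g := by
    rw [det_ofData, Fintype.prod_eq_single i0]
    · rw [hd, Function.update_self]
    · intro x hx
      rw [hd, Function.update_of_ne hx]
  refine ⟨g⁻¹ * ofData d (fun _ => (0 : F)), ?_, ?_⟩
  · rw [mem_slKer, map_mul, map_inv, hdet, inv_mul_cancel]
  · rw [mul_inv_cancel_left]
    exact ofData_mem_diagK d

/-! ### the Steinberg character of `SL_n(F)` and of `PSL_n(F)` -/

/-- the Steinberg character of `SL_n(F)` -/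
noncomputable def stSL (n : ℕ) (F : Type*) [Field F]
    (s : Matrix.SpecialLinearGroup (Fin n) F) : ℂ :=
  stGL n F (Matrix.SpecialLinearGroup.toGL s)

theorem isIrrCharacter_stSL [Finite F] (hn : 0 < n) :
    IsIrrCharacter (Matrix.SpecialLinearGroup (Fin n) F) (stSL n F) := by
  classical
  let _ : Fintype (GL (Fin n) F) := Fintype.ofFinite _
  let _ : Fintype ↥(slKer n F) := Fintype.ofFinite _
  have h1 : IsIrrCharacter ↥(slKer n F) (fun m : ↥(slKer n F) => stGL n F m) := by
    apply isIrrCharacter_restrict_of_nonvanishing (slKer n F) commutator_mem_slKer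
      isIrrCharacter_stGL
    intro g
    obtain ⟨m, hm, hgm⟩ := exists_mem_slKer_mul_mem_diagK hn g
    exact ⟨m, hm, stGL_ne_zero_of_mem_diagK hgm⟩
  exact isIrrCharacter_comp_mulEquiv (slEquiv n F) h1

theorem stSL_mul_central (g z : Matrix.SpecialLinearGroup (Fin n) F)
    (hz : z ∈ Subgroup.center (Matrix.SpecialLinearGroup (Fin n) F)) :
    stSL n F (g * z) = stSL n F g := by
  unfold stSL stGL
  obtain ⟨h1, h2⟩ := toGL_center hz
  rw [map_mul, stZ_mul_central _ _ h1 h2]

theorem stSL_one [Finite F] : stSL n F 1 = (Nat.card F ^ Nat.card (UpIdx n) : ℕ) := by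
  unfold stSL
  rw [map_one, stGL_one, card_BmodK]

/-- **The Steinberg character of `PSL_n(F)`.** -/
theorem steinberg_psl [Fintype F] (p : ℕ) [hp : Fact p.Prime] [CharP F p] (n : ℕ) (hn : 0 < n) :
    ∃ χ : Matrix.ProjectiveSpecialLinearGroup (Fin n) F → ℂ,
      IsIrrCharacter (Matrix.ProjectiveSpecialLinearGroup (Fin n) F) χ ∧
      ∀ P : Sylow p (Matrix.ProjectiveSpecialLinearGroup (Fin n) F),
        χ 1 = Nat.card P ∧
          ∀ x : Matrix.ProjectiveSpecialLinearGroup (Fin n) F, x ∈ P → x ≠ 1 → χ x = 0 := by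
  classical
  have hpp : p.Prime := hp.out
  obtain ⟨ψ, hψ, hinf⟩ := exists_eq_inflate (isIrrCharacter_stSL (n := n) (F := F) hn)
    (Subgroup.center (Matrix.SpecialLinearGroup (Fin n) F))
    (fun g z hz => stSL_mul_central g z hz)
  have hψ1 : ψ 1 = (Nat.card F ^ Nat.card (UpIdx n) : ℕ) := by
    rw [← stSL_one (n := n) (F := F), hinf, inflate_apply, QuotientGroup.mk_one]
  refine ⟨ψ, hψ, fun P => ⟨?_, ?_⟩⟩
  · rw [hψ1, card_sylow_psl p P]
  · intro x hxP hx1
    let _ : Fintype (Matrix.ProjectiveSpecialLinearGroup (Fin n) F) := Fintype.ofFinite _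
    obtain ⟨m, ρ, hirr, hρ⟩ := hψ
    have := hirr
    set a := (Nat.card (Matrix.ProjectiveSpecialLinearGroup (Fin n) F)).factorization p with ha
    have hcardP : Nat.card P = p ^ a := P.card_eq_multiplicity
    have hm : m = p ^ a := by
      have h1 : ρ.character 1 = (m : ℂ) := by
        rw [Representation.char_one]
        simp
      rw [hρ, hψ1, ← card_sylow_psl p P, hcardP] at h1
      exact_mod_cast h1.symm
    have hn' : ¬ p ^ (a + 1) ∣ Nat.card (Matrix.ProjectiveSpecialLinearGroup (Fin n) F) :=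
      Nat.pow_succ_factorization_not_dvd Nat.card_pos.ne' hpp
    have hdeg : p ^ a ∣ Module.finrank ℂ (Fin m → ℂ) := by
      rw [Module.finrank_fin_fun, hm]
    have hx : p ∣ orderOf x := by
      obtain ⟨k, hk⟩ := (IsPGroup.iff_orderOf.1 P.isPGroup') ⟨x, hxP⟩
      rw [Subgroup.orderOf_mk] at hk
      rw [hk]
      apply dvd_pow_self
      intro hk0
      rw [hk0, pow_zero, orderOf_eq_one_iff] at hk
      exact hx1 hk
    rw [← hρ]
    exact BrauerInd.character_eq_zero_of_defect_zero ρ p a hn' hdeg x hx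

end Cfsg.Agent.S2544L
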